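import Groth.Agent.Lib.Helper2.DegAdd.KerIm
import Groth.Agent.Lib.Helper25.SuppTensor
import Groth.Agent.Lib.Helper12.Dev9
import Groth.Agent.Lib.Helper29.TensorIso
import Groth.Agent.Lib.Lead.LinLES.Biprod

/-! # `H⁰` of modules with hereditarily closed support -/

set_option autoImplicit false
universe u
open CategoryTheory CategoryTheory.Limits AlgebraicGeometry

namespace Groth.Agent.Lib.Helper2.GP

open Groth.Agent.Lib.Helper2.DegAdd

variable {X : Scheme.{u}}

/-- hereditarily closed support -/
def HC (M : X.Modules) : Prop := ∀ S : Set X, S ⊆ CohB1.support M → IsClosed S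

theorem HC.of_subset {M N : X.Modules} (h : CohB1.support M ⊆ CohB1.support N) (hN : HC N) :
    HC M := fun S hS => hN S (hS.trans h)

theorem HC.of_mono {M N : X.Modules} (f : M ⟶ N) [Mono f] (hN : HC N) : HC M :=
  hN.of_subset (Groth.Agent.Lib.Helper12.H12Dev.support_subset_of_mono f)

theorem HC.of_epi {M N : X.Modules} (f : M ⟶ N) [Epi f] (hM : HC M) : HC N :=
  hM.of_subset (Groth.Agent.Lib.Helper12.H12Dev.support_subset_of_epi f)

theorem HC.of_iso {M N : X.Modules} (e : M ≅ N) (hM : HC M) : HC N :=
  hM.of_subset (le_of_eq (Groth.Agent.Lib.Helper12.H12Dev.support_eq_of_iso e).symm)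

theorem HC.tensor_left (F G : X.Modules) (hF : HC F) : HC (CohB1.tensorMod F G) :=
  hF.of_subset (Groth.Agent.Lib.Helper25.SuppTensor.support_tensorMod_subset F G)

theorem HC.tensor_right (F G : X.Modules) (hG : HC G) : HC (CohB1.tensorMod F G) :=
  (hG.tensor_left G F).of_iso (Groth.Agent.Lib.Helper29.QCoh.tensorBraid G F)

variable (k : Type u) [Field k] [X.Over (Spec (CommRingCat.of k))]

theorem injective_HHlin_of_mono {A B : X.Modules} (i : A ⟶ B) [Mono i] :
    Function.Injective (Canon.HHlin k i 0) := by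
  have hS : (ShortComplex.mk i (cokernel.π i) (cokernel.condition i)).ShortExact :=
    ShortComplex.ShortExact.mk (ShortComplex.exact_cokernel i)
  have hm : CategoryTheory.Mono (Groth.Agent.Lib.Lead.LinLES.abMap i) :=
    (Groth.Agent.Lib.Lead.LinLES.abS_shortExact _ hS).mono_f
  exact CategoryTheory.Abelian.Ext.postcomp_mk₀_injective_of_mono _
    (Groth.Agent.Lib.Lead.LinLES.abMap i)

theorem surjective_HHlin_g (S : ShortComplex X.Modules) (hS : S.ShortExact) (h1 : HC S.X₁) :
    Function.Surjective (Canon.HHlin k S.g 0) := by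
  intro x
  have hex := Groth.Agent.Lib.Lead.LinLES.exact₃ k S hS 0
  haveI := Groth.Agent.Lib.Helper29.QCoh.subsingleton_HH_succ_of_support_hereditarily_closed
    S.X₁ h1 0
  exact (hex x).1 (Subsingleton.elim _ _)

theorem surjective_HHlin_of_epi {A B : X.Modules} (p : A ⟶ B) [Epi p] (hA : HC A) :
    Function.Surjective (Canon.HHlin k p 0) := by
  have hS : (ShortComplex.mk (kernel.ι p) p (kernel.condition p)).ShortExact :=
    { exact := ShortComplex.exact_kernel p
      mono_f := inferInstanceAs (Mono (kernel.ι p))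
      epi_g := inferInstanceAs (Epi p) }
  exact surjective_HHlin_g k (ShortComplex.mk (kernel.ι p) p (kernel.condition p)) hS
    (hA.of_mono (kernel.ι p))

/-- middle exactness of `H⁰` on an exact pair with first term of hereditarily closed support -/
theorem ker_le_range_HHlin {A B C : X.Modules} (u : A ⟶ B) (v : B ⟶ C) (w : u ≫ v = 0)
    (hex : (ShortComplex.mk u v w).Exact) (hA : HC A) :
    LinearMap.ker (Canon.HHlin k v 0) ≤ LinearMap.range (Canon.HHlin k u 0) := by
  intro x hx
  rw [LinearMap.mem_ker] at hx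
  have hS := shortExact_kernel_factorThruImage v
  have hv : v = Abelian.factorThruImage v ≫ Abelian.image.ι v := (Abelian.image.fac v).symm
  have hx' : Canon.HHlin k (Abelian.factorThruImage v) 0 x = 0 := by
    apply injective_HHlin_of_mono k (Abelian.image.ι v)
    rw [← Groth.Agent.Lib.Lead.LinLES.HHlin_comp, Abelian.image.fac, hx, map_zero]
  obtain ⟨y, hy⟩ := (Groth.Agent.Lib.Lead.LinLES.exact₂ k _ hS 0 x).1 hx'
  have : Epi (kernel.lift v u w) := by
    have := (ShortComplex.exact_iff_epi_kernel_lift (ShortComplex.mk u v w)).1 hex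
    exact this
  obtain ⟨z, hz⟩ := surjective_HHlin_of_epi k (kernel.lift v u w) hA y
  refine ⟨z, ?_⟩
  have hu : u = kernel.lift v u w ≫ kernel.ι v := (kernel.lift_ι v u w).symm
  rw [hu, Groth.Agent.Lib.Lead.LinLES.HHlin_comp, hz]
  exact hy

end Groth.Agent.Lib.Helper2.GP
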