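import Groth.Agent.Lib.Helper2.GP.Stable
import Groth.Agent.Lib.Helper2.DegAdd.Sat2
import Groth.Agent.Lib.Lead.SD.Split2

/-! # Parabolic homomorphisms between semistable bundles of the same slope have constant rank -/

set_option autoImplicit false
universe u
open CategoryTheory CategoryTheory.Limits AlgebraicGeometry

namespace Groth.Agent.Lib.Helper2.GP

open Groth.Agent.Lib.Helper2.DegAdd Groth.Agent.Lib.Helper29.QCoh
  Groth.Agent.Lib.Lead.TwistExact

variable {X : Scheme.{u}} (k : Type u) [Field k] [X.Over (Spec (CommRingCat.of k))]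

/-- the parabolic degree of a zero module in rank zero vanishes -/
theorem gpDeg_eq_zero_of_isZero (I : X.IdealSheafData) (α : ℝ) {K : X.Modules} (hz : IsZero K)
    (K₁ : Submodule k (ParSh.fibD X I K)) : ParSh.gpDeg k X α K K₁ 0 = 0 := by
  have hz' : IsZero (CohB1.tensorMod K (ClSub.quotMod I)) :=
    Functor.map_isZero (tensorRight (ClSub.quotMod I)) hz
  haveI : Subsingleton (ParSh.fibD X I K) := subsingleton_HH_of_isZero k hz' 0
  have h0 : Module.finrank k K₁ = 0 := Module.finrank_zero_of_subsingleton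
  unfold ParSh.gpDeg ParSh.gpWt
  rw [deg_eq_zero_of_isZero k hz, h0]
  simp

variable [IsProper (X ↘ Spec (CommRingCat.of k))] [IsIntegral X]

theorem cokernel_locFree [Smooth (X ↘ Spec (CommRingCat.of k))]
    (hdim : topologicalKrullDim X ≤ 1)
    (I : X.IdealSheafData) (hD : FGA.IsEffCartier I) (α : ℝ) (hα0 : 0 ≤ α) (hα1 : α < 1)
    {E F : X.Modules} (n m : ℕ) (hn : 0 < n) (hm : 0 < m)
    (hE : FlatMod.IsFinLocFreeOfRank n E) (hF : FlatMod.IsFinLocFreeOfRank m F)
    (F₁ : Submodule k (ParSh.fibD X I E)) (F₁' : Submodule k (ParSh.fibD X I F))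
    (hEss : ParSh.IsGPSemistable k X I α F₁ n) (hFss : ParSh.IsGPSemistable k X I α F₁' m)
    (hμ : ParSh.gpDeg k X α E F₁ n * (m : ℝ) = ParSh.gpDeg k X α F F₁' m * (n : ℝ))
    (f : E ⟶ F) (hf : ParSh.IsGPHom k X I F₁ F₁' f) :
    ∃ r₀ : ℕ, FlatMod.IsFinLocFreeOfRank r₀ (cokernel f) := by
  by_cases hf0 : f = 0
  · subst hf0
    exact ⟨m, Groth.Agent.Lib.Lead.SD.isFinLocFreeOfRank_of_iso cokernelZeroIsoTarget.symm hF⟩
  obtain ⟨a, b, hK, hJ, hab, hdeg⟩ := exists_ker_im_decomp k hdim n m hE hF f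
  have hb : 0 < b := by
    rcases Nat.eq_zero_or_pos b with hb | hb
    · exfalso
      apply hf0
      subst hb
      have hz := isZero_of_rank_zero hJ
      rw [← Abelian.image.fac f, hz.eq_of_tgt (Abelian.factorThruImage f) 0, zero_comp]
    · exact hb
  have hJ' := hFss (Abelian.image f) b (Abelian.image.ι f) inferInstance hb hJ
  have hfr := finrank_le_ker_im k hdim I hD hE f hK hJ F₁ F₁' hf
  have hfr' : (Module.finrank k F₁ : ℝ) ≤
      (Module.finrank k (ParSh.gpInduced k X I (Abelian.image.ι f) F₁') : ℝ) +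
        (Module.finrank k (ParSh.gpInduced k X I (kernel.ι f) F₁) : ℝ) := by
    exact_mod_cast hfr
  have hle : ParSh.gpDeg k X α E F₁ n ≤
      ParSh.gpDeg k X α (kernel f) (ParSh.gpInduced k X I (kernel.ι f) F₁) a +
        ParSh.gpDeg k X α (Abelian.image f)
          (ParSh.gpInduced k X I (Abelian.image.ι f) F₁') b := by
    unfold ParSh.gpDeg ParSh.gpWt
    rw [hdeg]
    push_cast
    have := mul_le_mul_of_nonneg_left hfr' hα0
    linarith
  have hK' : ParSh.gpDeg k X α (kernel f) (ParSh.gpInduced k X I (kernel.ι f) F₁) a * (n : ℝ) ≤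
      ParSh.gpDeg k X α E F₁ n * (a : ℝ) := by
    rcases Nat.eq_zero_or_pos a with ha | ha
    · subst ha
      rw [gpDeg_eq_zero_of_isZero k I α (isZero_of_rank_zero hK)]
      simp
    · exact hEss (kernel f) a (kernel.ι f) inferInstance ha hK
  have hJeq := gp_slope_eq _ _ _ _ n m a b hn hm hab hμ hle hK' hJ'
  -- the saturation of the image
  obtain ⟨Js, Q', js, p, w, c, hSs, hJs, hQ', -, -, u, hu⟩ :=
    exists_saturation k hdim (Abelian.image.ι f) b m hJ hF
  haveI : Mono js := hSs.mono_f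
  haveI : Mono u := mono_of_mono_fac hu
  have hup : ParSh.IsGPHom k X I (ParSh.gpInduced k X I (Abelian.image.ι f) F₁')
      (ParSh.gpInduced k X I js F₁') u := by
    rintro _ ⟨x, hx, rfl⟩
    have h1 : ParSh.fibDMap k X I (Abelian.image.ι f) x ∈ F₁' := hx
    have h2 := fibDMap_comp k I u js x
    rw [hu] at h2
    rw [h2] at h1
    exact Submodule.mem_comap.2 h1
  obtain ⟨hle2, hiff⟩ := gpDeg_le_and_eq_iff k hdim I hD α hα0 hα1 b hJ hJs
    (ParSh.gpInduced k X I (Abelian.image.ι f) F₁') (ParSh.gpInduced k X I js F₁') u hup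
  have hJs' := hFss Js b js inferInstance hb hJs
  have hm' : (0 : ℝ) < m := by exact_mod_cast hm
  have heq : ParSh.gpDeg k X α (Abelian.image f)
      (ParSh.gpInduced k X I (Abelian.image.ι f) F₁') b =
      ParSh.gpDeg k X α Js (ParSh.gpInduced k X I js F₁') b := by
    apply le_antisymm hle2
    have h3 : ParSh.gpDeg k X α Js (ParSh.gpInduced k X I js F₁') b * (m : ℝ) ≤
        ParSh.gpDeg k X α (Abelian.image f)
          (ParSh.gpInduced k X I (Abelian.image.ι f) F₁') b * (m : ℝ) := by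
      rw [hJeq]
      exact hJs'
    exact le_of_mul_le_mul_right h3 hm'
  haveI : IsIso u := (hiff.1 heq).1
  have hfac : f = (Abelian.factorThruImage f ≫ u) ≫ js := by
    rw [Category.assoc, hu, Abelian.image.fac]
  haveI : Epi (ShortComplex.mk js p w).g := hSs.epi_g
  have e3 : cokernel js ≅ Q' :=
    IsColimit.coconePointUniqueUpToIso (cokernelIsCokernel js) hSs.exact.gIsCokernel
  have e : cokernel f ≅ Q' :=
    cokernelIsoOfEq hfac ≪≫ cokernelEpiComp (Abelian.factorThruImage f ≫ u) js ≪≫ e3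
  exact ⟨c, Groth.Agent.Lib.Lead.SD.isFinLocFreeOfRank_of_iso e.symm hQ'⟩

end Groth.Agent.Lib.Helper2.GP
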