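import Groth.Agent.Lib.Helper2.GP.H0
import Groth.Agent.Lib.Helper2.DegAdd.GenIso
import Groth.Agent.Lib.Lead.TwistExact
import Groth.Agent.Lib.Helper21.CDeg10
import Groth.Agent.Lib.Helper12.Fin13

/-! # Euler characteristics of restrictions to an effective Cartier divisor on a curve -/

set_option autoImplicit false
universe u
open CategoryTheory CategoryTheory.Limits AlgebraicGeometry

namespace Groth.Agent.Lib.Helper2.GP

open Groth.Agent.Lib.Helper2.DegAdd Groth.Agent.Lib.Helper29.QCoh
  Groth.Agent.Lib.Lead.TwistExact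

variable {X : Scheme.{u}}

/-- Tensoring on the left with `E`. -/
noncomputable abbrev tensorLeft (E : X.Modules) : X.Modules ⥤ X.Modules :=
  (ModSite.tensorBi X.sheaf).obj E

lemma tensorLeft_obj (E M : X.Modules) : (tensorLeft E).obj M = CohB1.tensorMod E M := rfl

instance (E : X.Modules) : (tensorLeft E).IsLeftAdjoint :=
  Groth.Agent.Lib.Helper17.Tensor.isLeftAdjoint_obj (O := X.sheaf) E

instance (E : X.Modules) : (tensorLeft E).PreservesZeroMorphisms :=
  Functor.preservesZeroMorphisms_of_isLeftAdjoint _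

theorem shortExact_map_tensorLeft {E : X.Modules} (hE : FlatMod.IsFlat E)
    (S : ShortComplex X.Modules) (hS : S.ShortExact) : (S.map (tensorLeft E)).ShortExact := by
  haveI : PreservesFiniteLimits (tensorLeft E) :=
    (Groth.Agent.Lib.Helper17.Tensor.isFlat_iff' (O := X.sheaf) E).1
      ((Groth.Agent.Lib.Helper17.FlatBridge.isFlat_iff E).1 hE)
  haveI : PreservesColimitsOfSize.{u, u} (tensorLeft E) :=
    Groth.Agent.Lib.Helper17.Tensor.obj_preservesColimits (O := X.sheaf) E
  haveI : PreservesFiniteColimits (tensorLeft E) :=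
    PreservesColimitsOfSize.preservesFiniteColimits _
  exact hS.map_of_exact (tensorLeft E)

theorem tensorRight_map (Q : X.Modules) {M M' : X.Modules} (f : M ⟶ M') :
    (tensorRight Q).map f = KoszTw.tensorMap f (𝟙 Q) := by
  rw [← KoszTw.tensorBi_map_app]
  rfl

theorem tensorLeft_map (E : X.Modules) {M M' : X.Modules} (g : M ⟶ M') :
    (tensorLeft E).map g = KoszTw.tensorMap (𝟙 E) g := by
  rw [← KoszTw.tensorBi_obj_map]
  rfl


section Curve

/-- an "ideal sequence" `0 → L → O → Q → 0` with `L` invertible -/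
structure IdealSeq (L Q : X.Modules) where
  ι : L ⟶ unitM X
  π : unitM X ⟶ Q
  w : ι ≫ π = 0
  exact : (ShortComplex.mk ι π w).ShortExact
  inv : PicF.IsInvertible L

theorem isCoh_unit : Coh.IsCoh (unitM X) :=
  ⟨isQuasicoherent_of_isInvertible (isInvertible_unit X),
    isFiniteType_of_isInvertible (isInvertible_unit X)⟩

theorem isCoh_of_isInvertible {L : X.Modules} (hL : PicF.IsInvertible L) : Coh.IsCoh L :=
  ⟨isQuasicoherent_of_isInvertible hL, isFiniteType_of_isInvertible hL⟩

/-- the quotient in an ideal sequence is the cokernel -/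
noncomputable def IdealSeq.cokerIso {L Q : X.Modules} (s : IdealSeq L Q) : cokernel s.ι ≅ Q :=
  haveI : Epi (ShortComplex.mk s.ι s.π s.w).g := s.exact.epi_g
  IsColimit.coconePointUniqueUpToIso (cokernelIsCokernel s.ι) s.exact.exact.gIsCokernel

theorem IdealSeq.isCoh [IsLocallyNoetherian X] {L Q : X.Modules} (s : IdealSeq L Q) :
    Coh.IsCoh Q :=
  Groth.Agent.Lib.Helper12.H12Dev.isCoh_of_iso s.cokerIso
    (Groth.Agent.Lib.Helper12.H12Dev.isCoh_cokernel s.ι (isCoh_of_isInvertible s.inv) isCoh_unit)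

theorem IdealSeq.hc [IsIntegral X] [IsLocallyNoetherian X] (hdim : topologicalKrullDim X ≤ 1)
    {L Q : X.Modules} (s : IdealSeq L Q) : HC Q := by
  haveI : Mono s.ι := s.exact.mono_f
  have hL1 := (isInvertible_iff_isFinLocFreeOfRank_one L).1 s.inv
  have hO1 := (isInvertible_iff_isFinLocFreeOfRank_one (unitM X)).1 (isInvertible_unit X)
  have hgen := subsingleton_cokernel_generic s.ι 1 hL1 hO1
  have hTc : Coh.IsCoh (cokernel s.ι) :=
    Groth.Agent.Lib.Helper12.H12Dev.isCoh_cokernel s.ι (isCoh_of_isInvertible s.inv) isCoh_unit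
  haveI := hTc.2
  have hh : HC (cokernel s.ι) := hered_of_generic_zero hdim (cokernel s.ι) hgen
  exact hh.of_iso s.cokerIso

variable (k : Type u) [Field k] [X.Over (Spec (CommRingCat.of k))]

theorem euler_eq_h0_of_hc {T : X.Modules} (hT : HC T) :
    Curv2.euler k X T = (Module.finrank k (Coh.HH X T 0) : ℤ) :=
  euler_eq_h0 k T (fun m => subsingleton_HH_succ_of_support_hereditarily_closed _ hT m)

/-- twisting by an invertible module does not change the Euler characteristic of a module with
hereditarily closed support -/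
theorem euler_tensor_of_hc {T L : X.Modules} [T.IsQuasicoherent] (hT : HC T)
    (hL : PicF.IsInvertible L) :
    Curv2.euler k X (CohB1.tensorMod T L) = Curv2.euler k X T := by
  obtain ⟨Ψ⟩ := Groth.Agent.Lib.Helper21.CDeg.nonempty_linearEquiv_HH_zero_tensorMod k T L hL
    (CohB1.support T) hT (fun x hx => not_not.1 hx)
  rw [euler_eq_h0_of_hc k hT, euler_eq_h0_of_hc k (hT.tensor_left T L), Ψ.finrank_eq]

variable [IsProper (X ↘ Spec (CommRingCat.of k))]

theorem euler_tensor_quot {L Q : X.Modules} (s : IdealSeq L Q) {E : X.Modules} {n : ℕ}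
    (hE : FlatMod.IsFinLocFreeOfRank n E) :
    Curv2.euler k X (CohB1.tensorMod E Q) =
      Curv2.euler k X E - Curv2.euler k X (CohB1.tensorMod E L) := by
  have : IsLocallyNoetherian X :=
    LocallyOfFiniteType.isLocallyNoetherian (X ↘ Spec (CommRingCat.of k))
  have hEc := isCoh_of_isFinLocFreeOfRank hE
  have hflat : FlatMod.IsFlat E := Groth.Agent.Lib.Helper28.DCohRes.isFlat_of_isFinLocFree
    (isFinLocFree_of_isFinLocFreeOfRank hE)
  have hS' := shortExact_map_tensorLeft hflat _ s.exact
  have hadd := Groth.Agent.S1524.result k X _ hS'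
    (Groth.Agent.Lib.Helper12.H12Fin.isCoh_tensorMod' hEc (isCoh_of_isInvertible s.inv))
    (Groth.Agent.Lib.Helper12.H12Fin.isCoh_tensorMod' hEc isCoh_unit)
    (Groth.Agent.Lib.Helper12.H12Fin.isCoh_tensorMod' hEc s.isCoh)
  change Curv2.euler k X (CohB1.tensorMod E (unitM X)) =
    Curv2.euler k X (CohB1.tensorMod E L) + Curv2.euler k X (CohB1.tensorMod E Q) at hadd
  rw [Groth.Agent.Lib.Helper21.CDeg.euler_of_iso k (tensorUnitR E)] at hadd
  linarith

variable [IsIntegral X]

/-- `deg F = deg E + h⁰(coker f)` for a monomorphism of vector bundles of the same rank -/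
theorem deg_eq_add_h0 (hdim : topologicalKrullDim X ≤ 1) {E F : X.Modules} {n : ℕ}
    (hE : FlatMod.IsFinLocFreeOfRank n E) (hF : FlatMod.IsFinLocFreeOfRank n F)
    (f : E ⟶ F) [Mono f] :
    HC (cokernel f) ∧ Coh.IsCoh (cokernel f) ∧
    Curv2.euler k X F = Curv2.euler k X E + (Module.finrank k (Coh.HH X (cokernel f) 0) : ℤ) := by
  have : IsLocallyNoetherian X :=
    LocallyOfFiniteType.isLocallyNoetherian (X ↘ Spec (CommRingCat.of k))
  have hEc := isCoh_of_isFinLocFreeOfRank hE
  have hFc := isCoh_of_isFinLocFreeOfRank hF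
  have hTc : Coh.IsCoh (cokernel f) := Groth.Agent.Lib.Helper12.H12Dev.isCoh_cokernel f hEc hFc
  haveI := hTc.2
  have hT : HC (cokernel f) :=
    hered_of_generic_zero hdim (cokernel f) (subsingleton_cokernel_generic f n hE hF)
  have hS0 : (ShortComplex.mk f (cokernel.π f) (cokernel.condition f)).ShortExact :=
    { exact := ShortComplex.exact_cokernel f
      mono_f := inferInstanceAs (Mono f)
      epi_g := inferInstanceAs (Epi (cokernel.π f)) }
  have h1 : Curv2.euler k X F = Curv2.euler k X E + Curv2.euler k X (cokernel f) :=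
    Groth.Agent.S1524.result k X (ShortComplex.mk f (cokernel.π f) (cokernel.condition f))
      hS0 hEc hFc hTc
  rw [euler_eq_h0_of_hc k hT] at h1
  exact ⟨hT, hTc, h1⟩

theorem euler_tensor_quot_eq (hdim : topologicalKrullDim X ≤ 1) {L Q : X.Modules}
    (s : IdealSeq L Q) {E F : X.Modules} {n : ℕ}
    (hE : FlatMod.IsFinLocFreeOfRank n E) (hF : FlatMod.IsFinLocFreeOfRank n F)
    (f : E ⟶ F) [Mono f] :
    Curv2.euler k X (CohB1.tensorMod E Q) = Curv2.euler k X (CohB1.tensorMod F Q) := by
  have : IsLocallyNoetherian X :=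
    LocallyOfFiniteType.isLocallyNoetherian (X ↘ Spec (CommRingCat.of k))
  have hEc := isCoh_of_isFinLocFreeOfRank hE
  have hFc := isCoh_of_isFinLocFreeOfRank hF
  have hLc := isCoh_of_isInvertible s.inv
  obtain ⟨hT, hTc, -⟩ := deg_eq_add_h0 k hdim hE hF f
  haveI := hTc.1
  have hS0 : (ShortComplex.mk f (cokernel.π f) (cokernel.condition f)).ShortExact :=
    { exact := ShortComplex.exact_cokernel f
      mono_f := inferInstanceAs (Mono f)
      epi_g := inferInstanceAs (Epi (cokernel.π f)) }
  have h1 : Curv2.euler k X F = Curv2.euler k X E + Curv2.euler k X (cokernel f) :=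
    Groth.Agent.S1524.result k X (ShortComplex.mk f (cokernel.π f) (cokernel.condition f))
      hS0 hEc hFc hTc
  have hS1 := shortExact_map_tensorRight (isFlat_of_isInvertible s.inv) _ hS0
  have h2 := Groth.Agent.S1524.result k X _ hS1
      (Groth.Agent.Lib.Helper12.H12Fin.isCoh_tensorMod' hEc hLc)
      (Groth.Agent.Lib.Helper12.H12Fin.isCoh_tensorMod' hFc hLc)
      (Groth.Agent.Lib.Helper12.H12Fin.isCoh_tensorMod' hTc hLc)
  change Curv2.euler k X (CohB1.tensorMod F L) = Curv2.euler k X (CohB1.tensorMod E L) +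
      Curv2.euler k X (CohB1.tensorMod (cokernel f) L) at h2
  rw [euler_tensor_of_hc k hT s.inv] at h2
  rw [euler_tensor_quot k s hE, euler_tensor_quot k s hF]
  linarith

end Curve

end Groth.Agent.Lib.Helper2.GP
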