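import Groth.Agent.Lib.Helper2.GP.Euler
import Groth.Agent.S0002

/-! # The kernel of `H⁰(E ⊗ O_D) → H⁰(F ⊗ O_D)` is bounded by the length of the cokernel -/

set_option autoImplicit false
universe u
open CategoryTheory CategoryTheory.Limits AlgebraicGeometry

namespace Groth.Agent.Lib.Helper2.GP

open Groth.Agent.Lib.Helper2.DegAdd Groth.Agent.Lib.Helper29.QCoh
  Groth.Agent.Lib.Lead.TwistExact

variable {X : Scheme.{u}} (k : Type u) [Field k] [X.Over (Spec (CommRingCat.of k))]
  [IsProper (X ↘ Spec (CommRingCat.of k))]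

/-- right exactness of `H⁰(- ⊗ Q)` in the middle -/
theorem ker_le_range_tensorRight {Q : X.Modules} {A B C : X.Modules} (u : A ⟶ B) (v : B ⟶ C)
    (w : u ≫ v = 0) (hex : (ShortComplex.mk u v w).Exact) [Epi v] (hQ : HC Q) :
    LinearMap.ker (Canon.HHlin k (KoszTw.tensorMap v (𝟙 Q)) 0) ≤
      LinearMap.range (Canon.HHlin k (KoszTw.tensorMap u (𝟙 Q)) 0) := by
  have hexQ : ((ShortComplex.mk u v w).map (tensorRight Q)).Exact :=
    hex.map_of_epi_of_preservesCokernel (tensorRight Q) (inferInstanceAs (Epi v)) inferInstance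
  have hmid := ker_le_range_HHlin k ((tensorRight Q).map u) ((tensorRight Q).map v)
    ((ShortComplex.mk u v w).map (tensorRight Q)).zero hexQ (hQ.tensor_right A Q)
  rw [tensorRight_map, tensorRight_map] at hmid
  exact hmid

variable [IsIntegral X]

theorem finrank_ker_le (hdim : topologicalKrullDim X ≤ 1) {L Q : X.Modules} (s : IdealSeq L Q)
    {E F : X.Modules} {n : ℕ} (hE : FlatMod.IsFinLocFreeOfRank n E)
    (hF : FlatMod.IsFinLocFreeOfRank n F) (f : E ⟶ F) [Mono f] :
    Module.finrank k (LinearMap.ker (Canon.HHlin k (KoszTw.tensorMap f (𝟙 Q)) 0)) ≤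
      Module.finrank k (Coh.HH X (cokernel f) 0) := by
  have : IsLocallyNoetherian X :=
    LocallyOfFiniteType.isLocallyNoetherian (X ↘ Spec (CommRingCat.of k))
  have hEc := isCoh_of_isFinLocFreeOfRank hE
  have hFc := isCoh_of_isFinLocFreeOfRank hF
  have hQc := s.isCoh
  have hQ : HC Q := s.hc hdim
  obtain ⟨hT, hTc, -⟩ := deg_eq_add_h0 k hdim hE hF f
  have hEQ : HC (CohB1.tensorMod E Q) := hQ.tensor_right E Q
  have hFQ : HC (CohB1.tensorMod F Q) := hQ.tensor_right F Q
  haveI : Module.Finite k (Coh.HH X (CohB1.tensorMod E Q) 0) :=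
    Groth.Agent.S0002.result k X _ (Groth.Agent.Lib.Helper12.H12Fin.isCoh_tensorMod' hEc hQc) 0
  haveI : Module.Finite k (Coh.HH X (CohB1.tensorMod F Q) 0) :=
    Groth.Agent.S0002.result k X _ (Groth.Agent.Lib.Helper12.H12Fin.isCoh_tensorMod' hFc hQc) 0
  haveI : Module.Finite k (Coh.HH X (CohB1.tensorMod (cokernel f) Q) 0) :=
    Groth.Agent.S0002.result k X _ (Groth.Agent.Lib.Helper12.H12Fin.isCoh_tensorMod' hTc hQc) 0
  haveI : Module.Finite k (Coh.HH X (cokernel f) 0) := Groth.Agent.S0002.result k X _ hTc 0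
  haveI : Module.Finite k (Coh.HH X (CohB1.tensorMod (cokernel f) (unitM X)) 0) :=
    Groth.Agent.S0002.result k X _
      (Groth.Agent.Lib.Helper12.H12Fin.isCoh_tensorMod' hTc isCoh_unit) 0
  have hN : Module.finrank k (Coh.HH X (CohB1.tensorMod E Q) 0) =
      Module.finrank k (Coh.HH X (CohB1.tensorMod F Q) 0) := by
    have h := euler_tensor_quot_eq k hdim s hE hF f
    rw [euler_eq_h0_of_hc k hEQ, euler_eq_h0_of_hc k hFQ] at h
    exact_mod_cast h
  have hmid := ker_le_range_tensorRight k f (cokernel.π f) (cokernel.condition f)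
    (ShortComplex.exact_cokernel f) hQ
  have h1 := LinearMap.finrank_range_add_finrank_ker
    (Canon.HHlin k (KoszTw.tensorMap f (𝟙 Q)) 0)
  have h2 := LinearMap.finrank_range_add_finrank_ker
    (Canon.HHlin k (KoszTw.tensorMap (cokernel.π f) (𝟙 Q)) 0)
  have h3 := Submodule.finrank_mono hmid
  have h4 : Module.finrank k (LinearMap.range
      (Canon.HHlin k (KoszTw.tensorMap (cokernel.π f) (𝟙 Q)) 0)) ≤
      Module.finrank k (Coh.HH X (CohB1.tensorMod (cokernel f) Q) 0) := Submodule.finrank_le _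
  have h5 : Module.finrank k (Coh.HH X (CohB1.tensorMod (cokernel f) Q) 0) ≤
      Module.finrank k (Coh.HH X (cokernel f) 0) := by
    haveI : Epi s.π := s.exact.epi_g
    haveI : Epi ((tensorLeft (cokernel f)).map s.π) := inferInstance
    have hsurj := surjective_HHlin_of_epi k ((tensorLeft (cokernel f)).map s.π)
      (hT.tensor_left (cokernel f) (unitM X))
    have hle : Module.finrank k (Coh.HH X (CohB1.tensorMod (cokernel f) Q) 0) ≤
        Module.finrank k (Coh.HH X (CohB1.tensorMod (cokernel f) (unitM X)) 0) :=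
      LinearMap.finrank_le_finrank_of_surjective hsurj
    rw [(Groth.Agent.Lib.Helper21.CDeg.HHlinEquiv k (tensorUnitR (cokernel f)) 0).finrank_eq]
      at hle
    exact hle
  omega

end Groth.Agent.Lib.Helper2.GP
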