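import Mathlib

/-! # Linear algebra lemmas for generalised parabolic degrees -/

set_option autoImplicit false

namespace Groth.Agent.Lib.Helper2.GP

theorem finrank_le_add_ker {k V W : Type*} [Field k] [AddCommGroup V] [Module k V]
    [AddCommGroup W] [Module k W] [FiniteDimensional k V] [FiniteDimensional k W]
    (φ : V →ₗ[k] W) (P : Submodule k V) (P' : Submodule k W) (h : P.map φ ≤ P') :
    Module.finrank k P ≤ Module.finrank k P' + Module.finrank k (LinearMap.ker φ) := by
  have h1 := LinearMap.finrank_range_add_finrank_ker (φ.domRestrict P)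
  have h2 : Module.finrank k (LinearMap.range (φ.domRestrict P)) ≤ Module.finrank k P' := by
    apply Submodule.finrank_mono
    rintro _ ⟨x, rfl⟩
    exact h ⟨x.1, x.2, rfl⟩
  have h3 : Module.finrank k (LinearMap.ker (φ.domRestrict P)) ≤
      Module.finrank k (LinearMap.ker φ) := by
    let g : LinearMap.ker (φ.domRestrict P) →ₗ[k] LinearMap.ker φ :=
      { toFun := fun x => ⟨x.1.1, by
          have := x.2
          rw [LinearMap.mem_ker] at this ⊢
          exact this⟩
        map_add' := fun _ _ => rfl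
        map_smul' := fun _ _ => rfl }
    apply LinearMap.finrank_le_finrank_of_injective (f := g)
    intro x y hxy
    apply Subtype.ext
    apply Subtype.ext
    exact congrArg (fun z : LinearMap.ker φ => (z : V)) hxy
  omega

/-- the arithmetic of the comparison of parabolic degrees -/
theorem gp_arith (α : ℝ) (hα0 : 0 ≤ α) (hα1 : α < 1) (dE dF : ℤ) (t a a' κ : ℕ)
    (hd : dF = dE + t) (hκ : κ ≤ t) (ha : a ≤ a' + κ) :
    ((dE : ℝ) + α * (a : ℝ) ≤ (dF : ℝ) + α * (a' : ℝ)) ∧
      (((dE : ℝ) + α * (a : ℝ) = (dF : ℝ) + α * (a' : ℝ)) → t = 0 ∧ (0 < α → a = a')) := by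
  have hd' : (dF : ℝ) = (dE : ℝ) + (t : ℝ) := by rw [hd]; push_cast; ring
  have ha' : (a : ℝ) ≤ (a' : ℝ) + (t : ℝ) := by
    have : a ≤ a' + t := le_trans ha (Nat.add_le_add_left hκ _)
    exact_mod_cast this
  have ht0 : (0 : ℝ) ≤ (t : ℝ) := Nat.cast_nonneg _
  have h1 : α * (a : ℝ) ≤ α * ((a' : ℝ) + (t : ℝ)) := mul_le_mul_of_nonneg_left ha' hα0
  have h2 : α * (t : ℝ) ≤ (t : ℝ) := by nlinarith
  refine ⟨by rw [hd']; nlinarith, fun heq => ?_⟩
  rw [hd'] at heq
  have ht : (t : ℝ) = 0 := by nlinarith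
  have ht' : t = 0 := by exact_mod_cast ht
  refine ⟨ht', fun hpos => ?_⟩
  rw [ht] at heq
  have h3 : α * (a : ℝ) = α * (a' : ℝ) := by linarith
  have h4 : (a : ℝ) = (a' : ℝ) := mul_left_cancel₀ (ne_of_gt hpos) h3
  exact_mod_cast h4

theorem finrank_le_add_comap {k U V W : Type*} [Field k] [AddCommGroup U] [Module k U]
    [AddCommGroup V] [Module k V] [AddCommGroup W] [Module k W] [FiniteDimensional k U]
    [FiniteDimensional k V] [FiniteDimensional k W]
    (φ : U →ₗ[k] V) (ψ : V →ₗ[k] W) (hker : LinearMap.ker ψ ≤ LinearMap.range φ)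
    (P : Submodule k V) (P' : Submodule k W) (h : P.map ψ ≤ P') :
    Module.finrank k P ≤ Module.finrank k P' + Module.finrank k (P.comap φ) := by
  have h1 := LinearMap.finrank_range_add_finrank_ker (ψ.domRestrict P)
  have h2 : Module.finrank k (LinearMap.range (ψ.domRestrict P)) ≤ Module.finrank k P' := by
    apply Submodule.finrank_mono
    rintro _ ⟨x, rfl⟩
    exact h ⟨x.1, x.2, rfl⟩
  have h3 : Module.finrank k (LinearMap.ker (ψ.domRestrict P)) ≤
      Module.finrank k (P.comap φ) := by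
    have e := LinearEquiv.finrank_eq (Submodule.equivMapOfInjective P.subtype
      P.injective_subtype (LinearMap.ker (ψ.domRestrict P)))
    rw [e]
    have hsub : (LinearMap.ker (ψ.domRestrict P)).map P.subtype ≤ (P.comap φ).map φ := by
      rintro _ ⟨x, hx, rfl⟩
      have hx' : ψ x.1 = 0 := by
        have := hx
        rw [SetLike.mem_coe, LinearMap.mem_ker] at this
        exact this
      obtain ⟨u, hu⟩ := hker (LinearMap.mem_ker.2 hx')
      refine ⟨u, ?_, hu⟩
      rw [SetLike.mem_coe, Submodule.mem_comap, hu]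
      exact x.2
    exact le_trans (Submodule.finrank_mono hsub) (Submodule.finrank_map_le φ (P.comap φ))
  omega

theorem gp_slope_contra (P PF PK PJ : ℝ) (n m a b : ℕ) (hn : 0 < n) (hm : 0 < m)
    (hab : n = a + b) (hμ : P * m = PF * n) (hle : P ≤ PK + PJ) (hK : PK * n < P * a)
    (hJ : PJ * m ≤ PF * b) : False := by
  have hn' : (0 : ℝ) < n := by exact_mod_cast hn
  have hm' : (0 : ℝ) < m := by exact_mod_cast hm
  have hab' : (n : ℝ) = (a : ℝ) + (b : ℝ) := by exact_mod_cast hab
  have h2 : PK * n * m < P * a * m := mul_lt_mul_of_pos_right hK hm'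
  have h3 : PJ * m * n ≤ PF * b * n := mul_le_mul_of_nonneg_right hJ hn'.le
  have e3 : PF * b * n = P * m * b := by
    have : PF * b * n = (PF * n) * b := by ring
    rw [this, ← hμ]
  have h0 := mul_le_mul_of_nonneg_right hle (mul_pos hm' hn').le
  have e1 : P * ((m : ℝ) * (n : ℝ)) = P * a * m + P * m * b := by
    rw [hab']
    ring
  have e2 : (PK + PJ) * ((m : ℝ) * (n : ℝ)) = PK * n * m + PJ * m * n := by ring
  rw [e1, e2] at h0
  linarith

theorem gp_slope_eq (P PF PK PJ : ℝ) (n m a b : ℕ) (hn : 0 < n) (hm : 0 < m)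
    (hab : n = a + b) (hμ : P * m = PF * n) (hle : P ≤ PK + PJ) (hK : PK * n ≤ P * a)
    (hJ : PJ * m ≤ PF * b) : PJ * m = PF * b := by
  have hn' : (0 : ℝ) < n := by exact_mod_cast hn
  have hm' : (0 : ℝ) < m := by exact_mod_cast hm
  have hab' : (n : ℝ) = (a : ℝ) + (b : ℝ) := by exact_mod_cast hab
  have h2 : PK * n * m ≤ P * a * m := mul_le_mul_of_nonneg_right hK hm'.le
  have e3 : PF * b * n = P * m * b := by
    have : PF * b * n = (PF * n) * b := by ring
    rw [this, ← hμ]
  have h0 := mul_le_mul_of_nonneg_right hle (mul_pos hm' hn').le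
  have e1 : P * ((m : ℝ) * (n : ℝ)) = P * a * m + P * m * b := by
    rw [hab']
    ring
  have e2 : (PK + PJ) * ((m : ℝ) * (n : ℝ)) = PK * n * m + PJ * m * n := by ring
  rw [e1, e2] at h0
  have h4 : PF * b * n ≤ PJ * m * n := by linarith
  have h5 : PF * b ≤ PJ * m := le_of_mul_le_mul_right h4 hn'
  exact le_antisymm hJ h5

end Groth.Agent.Lib.Helper2.GP
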