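import Groth.Agent.Lib.Helper2.GP.KerBound
import Groth.Agent.Lib.Helper2.GP.LinAlg
import Groth.Agent.Lib.Helper25.HypCoh1
import Groth.Agent.Lib.Helper29.NormCart1
import Groth.Prelude.Def_ParBun2
import Groth.Prelude.Def_FGA

/-! # Comparison of generalised parabolic degrees along a generic isomorphism -/

set_option autoImplicit false
universe u
open CategoryTheory CategoryTheory.Limits AlgebraicGeometry

namespace Groth.Agent.Lib.Helper2.GP

open Groth.Agent.Lib.Helper2.DegAdd Groth.Agent.Lib.Helper29.QCoh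

variable {X : Scheme.{u}}

/-- the ideal sequence of an effective Cartier divisor -/
noncomputable def idealSeqOf (I : X.IdealSheafData) (hD : FGA.IsEffCartier I) :
    IdealSeq (ClSub.idealMod I) (ClSub.quotMod I) where
  ι := ClSub.idealModι I
  π := ClSub.toSubscheme I
  w := kernel.condition _
  exact := Groth.Agent.Lib.Helper25.HypTwist.shortExact_idealSeq I
  inv := Groth.Agent.Lib.Helper29.NormCart.isInvertible_idealMod' I hD

variable (k : Type u) [Field k] [X.Over (Spec (CommRingCat.of k))]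
  [IsProper (X ↘ Spec (CommRingCat.of k))]

theorem finite_fibD (I : X.IdealSheafData) (hD : FGA.IsEffCartier I) {E : X.Modules} {n : ℕ}
    (hE : FlatMod.IsFinLocFreeOfRank n E) : Module.Finite k (ParSh.fibD X I E) := by
  haveI : IsLocallyNoetherian X :=
    LocallyOfFiniteType.isLocallyNoetherian (X ↘ Spec (CommRingCat.of k))
  exact Groth.Agent.S0002.result k X _ (Groth.Agent.Lib.Helper12.H12Fin.isCoh_tensorMod'
    (isCoh_of_isFinLocFreeOfRank hE) (idealSeqOf I hD).isCoh) 0

variable [IsIntegral X]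

theorem key (hdim : topologicalKrullDim X ≤ 1)
    (I : X.IdealSheafData) (hD : FGA.IsEffCartier I) {E F : X.Modules} (n : ℕ)
    (hE : FlatMod.IsFinLocFreeOfRank n E) (hF : FlatMod.IsFinLocFreeOfRank n F)
    (f : E ⟶ F) [Mono f] :
    ∃ t : ℕ, Curv2.deg k X F n = Curv2.deg k X E n + (t : ℤ) ∧
      Module.finrank k (LinearMap.ker (ParSh.fibDMap k X I f)) ≤ t ∧ (t = 0 ↔ IsIso f) := by
  haveI : IsLocallyNoetherian X :=
    LocallyOfFiniteType.isLocallyNoetherian (X ↘ Spec (CommRingCat.of k))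
  obtain ⟨hT, hTc, heul⟩ := deg_eq_add_h0 k hdim hE hF f
  haveI : Module.Finite k (Coh.HH X (cokernel f) 0) := Groth.Agent.S0002.result k X _ hTc 0
  refine ⟨Module.finrank k (Coh.HH X (cokernel f) 0), ?_,
    finrank_ker_le k hdim (idealSeqOf I hD) hE hF f, ?_⟩
  · unfold Curv2.deg
    rw [heul]
    ring
  · constructor
    · intro h0
      have hsub : Subsingleton (Coh.HH X (cokernel f) 0) := Module.finrank_zero_iff.1 h0
      have hz := isZero_of_subsingleton_h0 _ hT hsub
      haveI : Epi f := Preadditive.epi_of_isZero_cokernel f hz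
      exact isIso_of_mono_of_epi f
    · intro hiso
      have hz : IsZero (cokernel f) := isZero_cokernel_of_epi f
      haveI := subsingleton_HH_of_isZero k hz 0
      exact Module.finrank_zero_of_subsingleton

theorem gpDeg_le_and_eq_iff (hdim : topologicalKrullDim X ≤ 1)
    (I : X.IdealSheafData) (hD : FGA.IsEffCartier I) (α : ℝ) (hα0 : 0 ≤ α) (hα1 : α < 1)
    {E F : X.Modules} (n : ℕ) (hE : FlatMod.IsFinLocFreeOfRank n E)
    (hF : FlatMod.IsFinLocFreeOfRank n F)
    (F₁ : Submodule k (ParSh.fibD X I E)) (F₁' : Submodule k (ParSh.fibD X I F))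
    (f : E ⟶ F) [Mono f] (hf : ParSh.IsGPHom k X I F₁ F₁' f) :
    ParSh.gpDeg k X α E F₁ n ≤ ParSh.gpDeg k X α F F₁' n ∧
      (ParSh.gpDeg k X α E F₁ n = ParSh.gpDeg k X α F F₁' n ↔
        (IsIso f ∧ (0 < α → Submodule.map (ParSh.fibDMap k X I f) F₁ = F₁'))) := by
  obtain ⟨t, hdeg, hker, hiso⟩ := key k hdim I hD n hE hF f
  haveI := finite_fibD k I hD hE
  haveI := finite_fibD k I hD hF
  have ha := finrank_le_add_ker (ParSh.fibDMap k X I f) F₁ F₁' hf
  obtain ⟨hle, heq⟩ := gp_arith α hα0 hα1 (Curv2.deg k X E n) (Curv2.deg k X F n) t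
    (Module.finrank k F₁) (Module.finrank k F₁')
    (Module.finrank k (LinearMap.ker (ParSh.fibDMap k X I f))) hdeg hker ha
  have hunf : ∀ (G : X.Modules) (G₁ : Submodule k (ParSh.fibD X I G)),
      ParSh.gpDeg k X α G G₁ n =
        (Curv2.deg k X G n : ℝ) + α * (Module.finrank k G₁ : ℝ) := fun G G₁ => rfl
  have hinj : t = 0 → Function.Injective (ParSh.fibDMap k X I f) := by
    intro ht
    rw [← LinearMap.ker_eq_bot]
    have h0 : Module.finrank k (LinearMap.ker (ParSh.fibDMap k X I f)) = 0 := by omega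
    exact Submodule.finrank_eq_zero.1 h0
  rw [hunf, hunf]
  refine ⟨hle, ?_, ?_⟩
  · intro h
    obtain ⟨ht, hpos⟩ := heq h
    refine ⟨hiso.1 ht, fun hα => ?_⟩
    apply Submodule.eq_of_le_of_finrank_eq hf
    rw [← hpos hα]
    exact (LinearEquiv.finrank_eq (Submodule.equivMapOfInjective _ (hinj ht) F₁)).symm
  · rintro ⟨hisof, hmap⟩
    have ht : t = 0 := hiso.2 hisof
    have hdeg' : Curv2.deg k X F n = Curv2.deg k X E n := by
      rw [hdeg, ht]
      simp
    rw [hdeg']
    by_cases hα : 0 < α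
    · have h1 : Module.finrank k F₁' = Module.finrank k F₁ := by
        rw [← hmap hα]
        exact (LinearEquiv.finrank_eq (Submodule.equivMapOfInjective _ (hinj ht) F₁)).symm
      rw [h1]
    · have h0 : α = 0 := le_antisymm (not_lt.1 hα) hα0
      rw [h0]
      simp

end Groth.Agent.Lib.Helper2.GP
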