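import Mathlib

/-! # Arithmetic of generalised parabolic stability for weights near one -/

set_option autoImplicit false

namespace Groth.Agent.Lib.Helper2.GP

theorem core_le (α δ : ℝ) (A B : ℤ) (M : ℝ) (hδ0 : 0 ≤ δ) (hα : α = 1 - δ)
    (hM : -(B : ℝ) ≤ M) (hδM : δ * M < 1) (h : (A : ℝ) ≤ α * B) : A ≤ B := by
  have h1 : δ * (-(B : ℝ)) ≤ δ * M := mul_le_mul_of_nonneg_left hM hδ0
  have h2 : (A : ℝ) < (B : ℝ) + 1 := by
    rw [hα] at h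
    nlinarith
  have h3 : A < B + 1 := by exact_mod_cast h2
  omega

theorem core_lt (α δ : ℝ) (A B : ℤ) (M : ℝ) (hδ0 : 0 ≤ δ) (hα : α = 1 - δ)
    (hM : (B : ℝ) ≤ M) (hδM : δ * M < 1) (h : A < B) : (A : ℝ) < α * B := by
  have h1 : δ * (B : ℝ) ≤ δ * M := mul_le_mul_of_nonneg_left hM hδ0
  have h2 : A + 1 ≤ B := h
  have h3 : (A : ℝ) + 1 ≤ (B : ℝ) := by exact_mod_cast h2
  rw [hα]
  nlinarith

theorem ineq_le_iff (α : ℝ) (dG dE : ℤ) (g e n r : ℕ) :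
    ((dG : ℝ) + α * (g : ℝ)) * (n : ℝ) ≤ ((dE : ℝ) + α * (e : ℝ)) * (r : ℝ) ↔
      (((dG * n - dE * r : ℤ)) : ℝ) ≤ α * (((e * r - g * n : ℤ)) : ℝ) := by
  push_cast
  constructor <;> intro h <;> nlinarith

theorem ineq_lt_iff (α : ℝ) (dG dE : ℤ) (g e n r : ℕ) :
    ((dG : ℝ) + α * (g : ℝ)) * (n : ℝ) < ((dE : ℝ) + α * (e : ℝ)) * (r : ℝ) ↔
      (((dG * n - dE * r : ℤ)) : ℝ) < α * (((e * r - g * n : ℤ)) : ℝ) := by
  push_cast
  constructor <;> intro h <;> nlinarith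

/-- the smallness of `1 - α` -/
theorem delta_bound (α : ℝ) (d n : ℕ) (hd : 0 < d) (hn : 2 ≤ n)
    (hα : 1 - 1 / ((d : ℝ) * (n : ℝ) * ((n : ℝ) - 1)) < α) :
    (1 - α) * ((d : ℝ) * (n : ℝ) * ((n : ℝ) - 1)) < 1 := by
  have hd' : (1 : ℝ) ≤ d := by exact_mod_cast hd
  have hn' : (2 : ℝ) ≤ n := by exact_mod_cast hn
  have hpos : (0 : ℝ) < (d : ℝ) * (n : ℝ) * ((n : ℝ) - 1) := by
    apply mul_pos (mul_pos (by linarith) (by linarith))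
    linarith
  have h1 : 1 - α < 1 / ((d : ℝ) * (n : ℝ) * ((n : ℝ) - 1)) := by linarith
  have h2 := mul_lt_mul_of_pos_right h1 hpos
  rw [one_div, inv_mul_cancel₀ (ne_of_gt hpos)] at h2
  exact h2

theorem near_one_ss (α : ℝ) (d n r : ℕ) (dG dE : ℤ) (g e : ℕ) (hd : 0 < d) (hn : 2 ≤ n)
    (hr : 0 < r) (hrn : r ≤ n) (hα1 : α < 1)
    (hα : 1 - 1 / ((d : ℝ) * (n : ℝ) * ((n : ℝ) - 1)) < α) (hg : g ≤ r * d)
    (h : ((dG : ℝ) + α * (g : ℝ)) * (n : ℝ) ≤ ((dE : ℝ) + α * (e : ℝ)) * (r : ℝ)) :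
    ((dG : ℝ) + 1 * (g : ℝ)) * (n : ℝ) ≤ ((dE : ℝ) + 1 * (e : ℝ)) * (r : ℝ) := by
  have hδ := delta_bound α d n hd hn hα
  have hδ0 : (0 : ℝ) ≤ 1 - α := by linarith
  have hd' : (1 : ℝ) ≤ d := by exact_mod_cast hd
  have hn' : (2 : ℝ) ≤ n := by exact_mod_cast hn
  have hr' : (0 : ℝ) < r := by exact_mod_cast hr
  have hg' : (g : ℝ) ≤ (r : ℝ) * (d : ℝ) := by exact_mod_cast hg
  have he0 : (0 : ℝ) ≤ e := Nat.cast_nonneg _
  have hg0 : (0 : ℝ) ≤ g := Nat.cast_nonneg _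
  rcases Nat.lt_or_ge r n with hlt | hge
  · -- r < n
    have hr1 : (r : ℝ) ≤ (n : ℝ) - 1 := by
      have : r + 1 ≤ n := hlt
      have : ((r + 1 : ℕ) : ℝ) ≤ (n : ℝ) := by exact_mod_cast this
      push_cast at this
      linarith
    rw [ineq_le_iff] at h ⊢
    have hM : -(((e * r - g * n : ℤ)) : ℝ) ≤ (d : ℝ) * (n : ℝ) * ((n : ℝ) - 1) := by
      push_cast
      have h1 : (g : ℝ) * n ≤ (r : ℝ) * d * n :=
        mul_le_mul_of_nonneg_right hg' (by linarith)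
      have h2 : (r : ℝ) * d * n ≤ ((n : ℝ) - 1) * d * n :=
        mul_le_mul_of_nonneg_right (mul_le_mul_of_nonneg_right hr1 (by linarith)) (by linarith)
      nlinarith
    have := core_le α (1 - α) _ _ _ hδ0 (by ring) hM hδ h
    rw [one_mul]
    exact_mod_cast this
  · -- r = n
    have hrn' : r = n := le_antisymm hrn hge
    subst hrn'
    have h' : ((dG : ℝ) + α * (g : ℝ)) ≤ ((dE : ℝ) + α * (e : ℝ)) := le_of_mul_le_mul_right h hr'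
    have h'' : (((dG - dE : ℤ)) : ℝ) ≤ α * (((e - g : ℤ)) : ℝ) := by
      push_cast
      linarith
    have hM : -(((e - g : ℤ)) : ℝ) ≤ (d : ℝ) * (r : ℝ) := by
      push_cast
      nlinarith
    have hδ' : (1 - α) * ((d : ℝ) * (r : ℝ)) < 1 := by
      have : (1 - α) * ((d : ℝ) * (r : ℝ)) ≤ (1 - α) * ((d : ℝ) * (r : ℝ) * ((r : ℝ) - 1)) := by
        apply mul_le_mul_of_nonneg_left _ hδ0
        nlinarith
      linarith
    have := core_le α (1 - α) _ _ _ hδ0 (by ring) hM hδ' h''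
    have h3 : (((dG - dE : ℤ)) : ℝ) ≤ (((e - g : ℤ)) : ℝ) := by exact_mod_cast this
    push_cast at h3
    have h4 : (dG : ℝ) + 1 * (g : ℝ) ≤ (dE : ℝ) + 1 * (e : ℝ) := by linarith
    exact mul_le_mul_of_nonneg_right h4 hr'.le

theorem near_one_st (α : ℝ) (d n r : ℕ) (dG dE : ℤ) (g e : ℕ) (hd : 0 < d) (hn : 2 ≤ n)
    (hrn : r < n) (hα1 : α < 1)
    (hα : 1 - 1 / ((d : ℝ) * (n : ℝ) * ((n : ℝ) - 1)) < α) (he : e ≤ n * d)
    (h : ((dG : ℝ) + 1 * (g : ℝ)) * (n : ℝ) < ((dE : ℝ) + 1 * (e : ℝ)) * (r : ℝ)) :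
    ((dG : ℝ) + α * (g : ℝ)) * (n : ℝ) < ((dE : ℝ) + α * (e : ℝ)) * (r : ℝ) := by
  have hδ := delta_bound α d n hd hn hα
  have hδ0 : (0 : ℝ) ≤ 1 - α := by linarith
  have hd' : (1 : ℝ) ≤ d := by exact_mod_cast hd
  have hn' : (2 : ℝ) ≤ n := by exact_mod_cast hn
  have he' : (e : ℝ) ≤ (n : ℝ) * (d : ℝ) := by exact_mod_cast he
  have he0 : (0 : ℝ) ≤ e := Nat.cast_nonneg _
  have hg0 : (0 : ℝ) ≤ g := Nat.cast_nonneg _
  have hr0 : (0 : ℝ) ≤ r := Nat.cast_nonneg _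
  have hr1 : (r : ℝ) ≤ (n : ℝ) - 1 := by
    have : r + 1 ≤ n := hrn
    have : ((r + 1 : ℕ) : ℝ) ≤ (n : ℝ) := by exact_mod_cast this
    push_cast at this
    linarith
  rw [ineq_lt_iff] at h ⊢
  have hM : (((e * r - g * n : ℤ)) : ℝ) ≤ (d : ℝ) * (n : ℝ) * ((n : ℝ) - 1) := by
    push_cast
    have h1 : (e : ℝ) * r ≤ (n : ℝ) * d * r := mul_le_mul_of_nonneg_right he' hr0
    have h2 : (n : ℝ) * d * r ≤ (n : ℝ) * d * ((n : ℝ) - 1) :=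
      mul_le_mul_of_nonneg_left hr1 (by nlinarith)
    nlinarith
  rw [one_mul] at h
  have h' : (dG * n - dE * r : ℤ) < (e * r - g * n : ℤ) := by exact_mod_cast h
  exact core_lt α (1 - α) _ _ _ hδ0 (by ring) hM hδ h'

theorem one_st_of_one_ss_coprime (n r : ℕ) (dG dE : ℤ) (g a : ℕ) (hr : 0 < r) (hrn : r < n)
    (hcop : IsCoprime (n : ℤ) dE)
    (h : ((dG : ℝ) + 1 * (g : ℝ)) * (n : ℝ) ≤ ((dE : ℝ) + 1 * ((a * n : ℕ) : ℝ)) * (r : ℝ)) :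
    ((dG : ℝ) + 1 * (g : ℝ)) * (n : ℝ) < ((dE : ℝ) + 1 * ((a * n : ℕ) : ℝ)) * (r : ℝ) := by
  have hZ : (dG + g) * (n : ℤ) ≤ (dE + a * n) * (r : ℤ) := by
    have : (((dG + g) * (n : ℤ) : ℤ) : ℝ) ≤ (((dE + a * n) * (r : ℤ) : ℤ) : ℝ) := by
      push_cast
      push_cast at h
      linarith
    exact_mod_cast this
  have hne : (dG + g) * (n : ℤ) ≠ (dE + a * n) * (r : ℤ) := by
    intro heq
    have hdvd : (n : ℤ) ∣ dE * r := by
      have h1 : (n : ℤ) ∣ (dE + a * n) * (r : ℤ) := ⟨dG + g, by rw [← heq]; ring⟩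
      have h2 : (dE + a * n) * (r : ℤ) = dE * r + (n : ℤ) * (a * r) := by ring
      rw [h2] at h1
      exact (Int.dvd_add_left (Dvd.intro _ rfl)).1 h1
    have hdvd' : (n : ℤ) ∣ (r : ℤ) := hcop.dvd_of_dvd_mul_left hdvd
    have hr' : (0 : ℤ) < r := by exact_mod_cast hr
    have := Int.le_of_dvd hr' hdvd'
    have hrn' : (r : ℤ) < n := by exact_mod_cast hrn
    omega
  have hlt : (dG + g) * (n : ℤ) < (dE + a * n) * (r : ℤ) := lt_of_le_of_ne hZ hne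
  have : (((dG + g) * (n : ℤ) : ℤ) : ℝ) < (((dE + a * n) * (r : ℤ) : ℤ) : ℝ) := by exact_mod_cast hlt
  push_cast at this
  push_cast
  linarith

end Groth.Agent.Lib.Helper2.GP
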