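import Groth.Agent.Lib.Helper2.GP.Main
import Groth.Agent.Lib.Helper2.GP.NearOne

/-! # Generalised parabolic stability for weights near one -/

set_option autoImplicit false
universe u
open CategoryTheory CategoryTheory.Limits AlgebraicGeometry

namespace Groth.Agent.Lib.Helper2.GP

open Groth.Agent.Lib.Helper2.DegAdd

variable {X : Scheme.{u}} (k : Type u) [Field k] [X.Over (Spec (CommRingCat.of k))]

/-- dimension bound from the degree hypothesis -/
theorem finrank_le_of_hdegD (I : X.IdealSheafData) (d : ℕ) (hd : 0 < d)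
    (hdegD : ∀ (G : X.Modules) (r : ℕ), FlatMod.IsFinLocFreeOfRank r G →
      Module.finrank k (ParSh.fibD X I G) = r * d)
    {G : X.Modules} {r : ℕ} (hr : 0 < r) (hG : FlatMod.IsFinLocFreeOfRank r G)
    (P : Submodule k (ParSh.fibD X I G)) : Module.finrank k P ≤ r * d := by
  have h := hdegD G r hG
  haveI : Module.Finite k (ParSh.fibD X I G) :=
    Module.finite_of_finrank_pos (by rw [h]; exact Nat.mul_pos hr hd)
  rw [← h]
  exact Submodule.finrank_le P

theorem st_of_st_one (I : X.IdealSheafData) (d : ℕ) (hd : 0 < d)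
    (hdegD : ∀ (G : X.Modules) (r : ℕ), FlatMod.IsFinLocFreeOfRank r G →
      Module.finrank k (ParSh.fibD X I G) = r * d)
    {E : X.Modules} (n : ℕ) (hn : 2 ≤ n) (hE : FlatMod.IsFinLocFreeOfRank n E)
    (F₁ : Submodule k (ParSh.fibD X I E))
    (α : ℝ) (hα1 : α < 1) (hα : 1 - 1 / ((d : ℝ) * (n : ℝ) * ((n : ℝ) - 1)) < α)
    (hst : ParSh.IsGPStable k X I 1 F₁ n) : ParSh.IsGPStable k X I α F₁ n := by
  intro G r i hi hr hrn hG
  have h := hst G r i hi hr hrn hG
  have he := finrank_le_of_hdegD k I d hd hdegD (by omega : 0 < n) hE F₁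
  unfold ParSh.gpDeg ParSh.gpWt at h ⊢
  exact near_one_st α d n r _ _ _ _ hd hn hrn hα1 hα he h

variable [IsIntegral X]

theorem ss_one_of_ss (I : X.IdealSheafData) (d : ℕ) (hd : 0 < d)
    (hdegD : ∀ (G : X.Modules) (r : ℕ), FlatMod.IsFinLocFreeOfRank r G →
      Module.finrank k (ParSh.fibD X I G) = r * d)
    {E : X.Modules} (n : ℕ) (hn : 2 ≤ n) (hE : FlatMod.IsFinLocFreeOfRank n E)
    (F₁ : Submodule k (ParSh.fibD X I E))
    (α : ℝ) (hα1 : α < 1) (hα : 1 - 1 / ((d : ℝ) * (n : ℝ) * ((n : ℝ) - 1)) < α)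
    (hss : ParSh.IsGPSemistable k X I α F₁ n) : ParSh.IsGPSemistable k X I 1 F₁ n := by
  intro G r i hi hr hG
  haveI := hi
  have h := hss G r i hi hr hG
  have hrn : r ≤ n := rank_le_of_mono i r n hG hE (Classical.arbitrary X)
  have hg := finrank_le_of_hdegD k I d hd hdegD hr hG (ParSh.gpInduced k X I i F₁)
  unfold ParSh.gpDeg ParSh.gpWt at h ⊢
  exact near_one_ss α d n r _ _ _ _ hd hn hr hrn hα1 hα hg h

variable [IsProper (X ↘ Spec (CommRingCat.of k))]

theorem four_equiv (hdim : topologicalKrullDim X ≤ 1)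
    (I : X.IdealSheafData) (hD : FGA.IsEffCartier I) (d : ℕ) (hd : 0 < d)
    (hdegD : ∀ (G : X.Modules) (r : ℕ), FlatMod.IsFinLocFreeOfRank r G →
      Module.finrank k (ParSh.fibD X I G) = r * d)
    {E : X.Modules} (n : ℕ) (hn : 2 ≤ n) (hE : FlatMod.IsFinLocFreeOfRank n E)
    (F₁ : Submodule k (ParSh.fibD X I E))
    (α : ℝ) (hα0 : 0 ≤ α) (hα1 : α < 1)
    (hα : 1 - 1 / ((d : ℝ) * (n : ℝ) * ((n : ℝ) - 1)) < α)
    (hcop : IsCoprime (n : ℤ) (Curv2.deg k X E n)) (a : ℕ)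
    (ha : Module.finrank k F₁ = a * n) :
    (ParSh.IsGPSemistable k X I α F₁ n ↔ ParSh.IsGPSemistable k X I 1 F₁ n) ∧
      (ParSh.IsGPStable k X I α F₁ n ↔ ParSh.IsGPSemistable k X I 1 F₁ n) ∧
      (ParSh.IsGPStable k X I 1 F₁ n ↔ ParSh.IsGPSemistable k X I 1 F₁ n) := by
  have h1 : ParSh.IsGPSemistable k X I α F₁ n → ParSh.IsGPSemistable k X I 1 F₁ n :=
    ss_one_of_ss k I d hd hdegD n hn hE F₁ α hα1 hα
  have h2 : ParSh.IsGPSemistable k X I 1 F₁ n → ParSh.IsGPStable k X I 1 F₁ n := by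
    intro hss G r i hi hr hrn hG
    have h := hss G r i hi hr hG
    unfold ParSh.gpDeg ParSh.gpWt at h ⊢
    rw [ha] at h ⊢
    exact one_st_of_one_ss_coprime n r _ _ _ a hr hrn hcop h
  have h3 : ParSh.IsGPStable k X I 1 F₁ n → ParSh.IsGPStable k X I α F₁ n :=
    st_of_st_one k I d hd hdegD n hn hE F₁ α hα1 hα
  have h4 : ParSh.IsGPStable k X I α F₁ n → ParSh.IsGPSemistable k X I α F₁ n := by
    intro hst G r i hi hr hG
    haveI := hi
    have hrn : r ≤ n := rank_le_of_mono i r n hG hE (Classical.arbitrary X)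
    rcases Nat.lt_or_ge r n with hlt | hge
    · exact le_of_lt (hst G r i hi hr hlt hG)
    · have hrn' : r = n := le_antisymm hrn hge
      subst hrn'
      have hgp : ParSh.IsGPHom k X I (ParSh.gpInduced k X I i F₁) F₁ i :=
        Submodule.map_comap_le _ _
      have hle := (gpDeg_le_and_eq_iff k hdim I hD α hα0 hα1 r hG hE _ F₁ i hgp).1
      have hr' : (0 : ℝ) ≤ r := Nat.cast_nonneg _
      exact mul_le_mul_of_nonneg_right hle hr'
  exact ⟨⟨h1, fun h => h4 (h3 (h2 h))⟩, ⟨fun h => h1 (h4 h), fun h => h3 (h2 h)⟩,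
    ⟨fun h => h1 (h4 (h3 h)), h2⟩⟩

end Groth.Agent.Lib.Helper2.GP
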