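import Groth.Agent.Lib.Helper2.GP.Stable
import Groth.Agent.Lib.Helper17.LGExt
import Groth.Agent.Lib.Helper2.DegAdd.EndFin2

/-! # Stable generalised parabolic bundles are simple -/

set_option autoImplicit false
universe u
open CategoryTheory CategoryTheory.Limits AlgebraicGeometry

namespace Groth.Agent.Lib.Helper2.GP

open Groth.Agent.Lib.Helper2.DegAdd Groth.Agent.Lib.Helper29.QCoh

variable {X : Scheme.{u}} (k : Type u) [Field k] [X.Over (Spec (CommRingCat.of k))]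

lemma HHlin_add {M N : X.Modules} (φ ψ : M ⟶ N) (q : ℕ) (x : Coh.HH X M q) :
    Canon.HHlin k (φ + ψ) q x = Canon.HHlin k φ q x + Canon.HHlin k ψ q x := by
  change Sheaf.H.map ((toSheafAb X).map (φ + ψ)) q x = _
  rw [CategoryTheory.Functor.map_add]
  exact Sheaf.H.map_add_apply _ _ x

lemma resDMap_add (I : X.IdealSheafData) {A B : X.Modules} (u v : A ⟶ B) :
    ParSh.resDMap I (u + v) = ParSh.resDMap I u + ParSh.resDMap I v := by
  change KoszTw.tensorMap (u + v) (𝟙 _) = KoszTw.tensorMap u (𝟙 _) + KoszTw.tensorMap v (𝟙 _)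
  rw [← KoszTw.tensorBi_map_app, ← KoszTw.tensorBi_map_app, ← KoszTw.tensorBi_map_app,
    Functor.map_add]
  rfl

lemma resDMap_smul (I : X.IdealSheafData) (A : X.Modules) (c : k) :
    ParSh.resDMap I (c • 𝟙 A) = c • 𝟙 (ParSh.resD I A) := by
  rw [KLin.smul_id, KLin.smul_id]
  change KoszTw.tensorMap (Formal.smulMod k A c) (𝟙 _) = _
  rw [← KoszTw.tensorBi_map_app]
  exact Groth.Agent.Lib.Helper17.LGExt.tensorBi_map_app_smulModΓ _ A _

theorem fibDMap_sub_smul (I : X.IdealSheafData) {A : X.Modules} (f : A ⟶ A) (c : k)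
    (x : ParSh.fibD X I A) :
    ParSh.fibDMap k X I (c • 𝟙 A - f) x = c • x - ParSh.fibDMap k X I f x := by
  have h1 : ParSh.resDMap I (c • 𝟙 A - f) + ParSh.resDMap I f = c • 𝟙 (ParSh.resD I A) := by
    rw [← resDMap_add, sub_add_cancel, resDMap_smul]
  have h2 := HHlin_add k (ParSh.resDMap I (c • 𝟙 A - f)) (ParSh.resDMap I f) 0 x
  rw [h1, KLin.smul_id] at h2
  have h3 : Canon.HHlin k (Formal.smulMod k (ParSh.resD I A) c) 0 x = c • x := rfl
  rw [h3] at h2
  change Canon.HHlin k (ParSh.resDMap I (c • 𝟙 A - f)) 0 x =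
    c • x - Canon.HHlin k (ParSh.resDMap I f) 0 x
  rw [h2]
  abel

variable [IsProper (X ↘ Spec (CommRingCat.of k))] [IsIntegral X]

theorem endo_scalar [IsAlgClosed k] [Smooth (X ↘ Spec (CommRingCat.of k))]
    (hdim : topologicalKrullDim X ≤ 1)
    (I : X.IdealSheafData) (hD : FGA.IsEffCartier I) (α : ℝ) (hα0 : 0 ≤ α) (hα1 : α < 1)
    {E : X.Modules} (n : ℕ) (hn : 0 < n) (hE : FlatMod.IsFinLocFreeOfRank n E)
    (F₁ : Submodule k (ParSh.fibD X I E))
    (hEss : ParSh.IsGPSemistable k X I α F₁ n) (hEst : ParSh.IsGPStable k X I α F₁ n)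
    (f : E ⟶ E) (hf : ParSh.IsGPHom k X I F₁ F₁ f) : ∃ c : k, f = c • 𝟙 E := by
  have : IsLocallyNoetherian X :=
    LocallyOfFiniteType.isLocallyNoetherian (X ↘ Spec (CommRingCat.of k))
  have hEc := isCoh_of_isFinLocFreeOfRank hE
  haveI hfin : Module.Finite k (End E) := finite_hom k E E hEc hEc
  have hnz : ¬ IsZero E := fun hz => by
    have := rank_eq_zero_of_isZero hE hz
    omega
  haveI hnt : Nontrivial (End E) :=
    ⟨⟨𝟙 E, 0, fun h => hnz ((IsZero.iff_id_eq_zero E).2 h)⟩⟩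
  obtain ⟨c, hc⟩ := spectrum.nonempty_of_isAlgClosed_of_finiteDimensional k (show End E from f)
  refine ⟨c, ?_⟩
  rw [spectrum.mem_iff] at hc
  have hgp : ParSh.IsGPHom k X I F₁ F₁ (c • 𝟙 E - f) := by
    rintro _ ⟨x, hx, rfl⟩
    have h1 := fibDMap_sub_smul k I f c x
    have h2 : c • x - ParSh.fibDMap k X I f x ∈ F₁ :=
      F₁.sub_mem (F₁.smul_mem c hx) (hf (Submodule.mem_map_of_mem hx))
    rw [← h1] at h2
    exact h2
  rcases eq_zero_or_isIso k hdim I hD α hα0 hα1 n n hn hn hE hE F₁ F₁ hEst hEss hEst rfl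
    (c • 𝟙 E - f) hgp with h0 | ⟨hiso, -⟩
  · exact (sub_eq_zero.1 h0).symm
  · exfalso
    apply hc
    have h3 : (algebraMap k (End E) c - (show End E from f)) = (c • 𝟙 E - f : E ⟶ E) := by
      rw [Algebra.algebraMap_eq_smul_one]
      rfl
    rw [h3]
    exact (isUnit_iff_isIso (X := E) (c • 𝟙 E - f)).2 hiso

end Groth.Agent.Lib.Helper2.GP
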