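import Groth.Agent.Lib.Helper2.GP.Main

/-! # Parabolic homomorphisms between stable generalised parabolic bundles of the same slope -/

set_option autoImplicit false
universe u
open CategoryTheory CategoryTheory.Limits AlgebraicGeometry

namespace Groth.Agent.Lib.Helper2.GP

open Groth.Agent.Lib.Helper2.DegAdd Groth.Agent.Lib.Helper29.QCoh
  Groth.Agent.Lib.Lead.TwistExact

variable {X : Scheme.{u}} (k : Type u) [Field k] [X.Over (Spec (CommRingCat.of k))]

theorem fibDMap_comp (I : X.IdealSheafData) {A B C : X.Modules} (u : A ⟶ B) (v : B ⟶ C)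
    (x : ParSh.fibD X I A) :
    ParSh.fibDMap k X I (u ≫ v) x = ParSh.fibDMap k X I v (ParSh.fibDMap k X I u x) := by
  have h : ParSh.resDMap I (u ≫ v) = ParSh.resDMap I u ≫ ParSh.resDMap I v := by
    change KoszTw.tensorMap (u ≫ v) (𝟙 _) = KoszTw.tensorMap u (𝟙 _) ≫ KoszTw.tensorMap v (𝟙 _)
    rw [← tensorRight_map, ← tensorRight_map, ← tensorRight_map]
    exact Functor.map_comp _ _ _
  change Canon.HHlin k (ParSh.resDMap I (u ≫ v)) 0 x = _
  rw [h, Groth.Agent.Lib.Lead.LinLES.HHlin_comp]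

variable [IsProper (X ↘ Spec (CommRingCat.of k))] [IsIntegral X]

theorem finrank_le_ker_im (hdim : topologicalKrullDim X ≤ 1) (I : X.IdealSheafData)
    (hD : FGA.IsEffCartier I) {E F : X.Modules} {n a b : ℕ}
    (hE : FlatMod.IsFinLocFreeOfRank n E) (f : E ⟶ F)
    (hK : FlatMod.IsFinLocFreeOfRank a (kernel f))
    (hJ : FlatMod.IsFinLocFreeOfRank b (Abelian.image f))
    (F₁ : Submodule k (ParSh.fibD X I E)) (F₁' : Submodule k (ParSh.fibD X I F))
    (hf : ParSh.IsGPHom k X I F₁ F₁' f) :
    Module.finrank k F₁ ≤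
      Module.finrank k (ParSh.gpInduced k X I (Abelian.image.ι f) F₁') +
        Module.finrank k (ParSh.gpInduced k X I (kernel.ι f) F₁) := by
  have : IsLocallyNoetherian X :=
    LocallyOfFiniteType.isLocallyNoetherian (X ↘ Spec (CommRingCat.of k))
  haveI := finite_fibD k I hD hE
  haveI := finite_fibD k I hD hK
  haveI := finite_fibD k I hD hJ
  have hQ : HC (ClSub.quotMod I) := (idealSeqOf I hD).hc hdim
  have hS := shortExact_kernel_factorThruImage f
  haveI : Epi (Abelian.factorThruImage f) := hS.epi_g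
  have hmid := ker_le_range_tensorRight k (kernel.ι f) (Abelian.factorThruImage f)
    (kernel_ι_factorThruImage f) hS.exact hQ
  unfold ParSh.gpInduced
  apply finrank_le_add_comap (ParSh.fibDMap k X I (kernel.ι f))
    (ParSh.fibDMap k X I (Abelian.factorThruImage f)) hmid F₁ _
  rintro _ ⟨x, hx, rfl⟩
  have h1 : ParSh.fibDMap k X I f x ∈ F₁' := hf (Submodule.mem_map_of_mem hx)
  have h2 := fibDMap_comp k I (Abelian.factorThruImage f) (Abelian.image.ι f) x
  rw [Abelian.image.fac] at h2
  rw [h2] at h1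
  exact Submodule.mem_comap.2 h1

theorem eq_zero_or_isIso [Smooth (X ↘ Spec (CommRingCat.of k))]
    (hdim : topologicalKrullDim X ≤ 1)
    (I : X.IdealSheafData) (hD : FGA.IsEffCartier I) (α : ℝ) (hα0 : 0 ≤ α) (hα1 : α < 1)
    {E F : X.Modules} (n m : ℕ) (hn : 0 < n) (hm : 0 < m)
    (hE : FlatMod.IsFinLocFreeOfRank n E) (hF : FlatMod.IsFinLocFreeOfRank m F)
    (F₁ : Submodule k (ParSh.fibD X I E)) (F₁' : Submodule k (ParSh.fibD X I F))
    (hEst : ParSh.IsGPStable k X I α F₁ n)
    (hFss : ParSh.IsGPSemistable k X I α F₁' m) (hFst : ParSh.IsGPStable k X I α F₁' m)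
    (hμ : ParSh.gpDeg k X α E F₁ n * (m : ℝ) = ParSh.gpDeg k X α F F₁' m * (n : ℝ))
    (f : E ⟶ F) (hf : ParSh.IsGPHom k X I F₁ F₁' f) :
    f = 0 ∨ (IsIso f ∧ (0 < α → Submodule.map (ParSh.fibDMap k X I f) F₁ = F₁')) := by
  by_cases hf0 : f = 0
  · exact Or.inl hf0
  right
  obtain ⟨a, b, hK, hJ, hab, hdeg⟩ := exists_ker_im_decomp k hdim n m hE hF f
  have hb : 0 < b := by
    rcases Nat.eq_zero_or_pos b with hb | hb
    · exfalso
      apply hf0
      subst hb
      have hz := isZero_of_rank_zero hJ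
      rw [← Abelian.image.fac f, hz.eq_of_tgt (Abelian.factorThruImage f) 0, zero_comp]
    · exact hb
  have ha : a = 0 := by
    by_contra ha
    have ha' : 0 < a := Nat.pos_of_ne_zero ha
    have hlt : a < n := by omega
    have hK' := hEst (kernel f) a (kernel.ι f) inferInstance ha' hlt hK
    have hJ' := hFss (Abelian.image f) b (Abelian.image.ι f) inferInstance hb hJ
    have hfr := finrank_le_ker_im k hdim I hD hE f hK hJ F₁ F₁' hf
    have hfr' : (Module.finrank k F₁ : ℝ) ≤
        (Module.finrank k (ParSh.gpInduced k X I (Abelian.image.ι f) F₁') : ℝ) +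
          (Module.finrank k (ParSh.gpInduced k X I (kernel.ι f) F₁) : ℝ) := by
      exact_mod_cast hfr
    have hle : ParSh.gpDeg k X α E F₁ n ≤
        ParSh.gpDeg k X α (kernel f) (ParSh.gpInduced k X I (kernel.ι f) F₁) a +
          ParSh.gpDeg k X α (Abelian.image f)
            (ParSh.gpInduced k X I (Abelian.image.ι f) F₁') b := by
      unfold ParSh.gpDeg ParSh.gpWt
      rw [hdeg]
      push_cast
      have := mul_le_mul_of_nonneg_left hfr' hα0
      linarith
    exact gp_slope_contra _ _ _ _ n m a b hn hm hab hμ hle hK' hJ'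
  subst ha
  haveI : Mono f := Preadditive.mono_of_isZero_kernel f (isZero_of_rank_zero hK)
  have hnm : n ≤ m := rank_le_of_mono f n m hE hF (Classical.arbitrary X)
  have hmn : ¬ n < m := by
    intro hlt
    have hst := hFst E n f inferInstance hn hlt hE
    have hsub : F₁ ≤ ParSh.gpInduced k X I f F₁' := Submodule.map_le_iff_le_comap.1 hf
    haveI := finite_fibD k I hD hE
    have hfr : (Module.finrank k F₁ : ℝ) ≤
        (Module.finrank k (ParSh.gpInduced k X I f F₁') : ℝ) := by
      exact_mod_cast Submodule.finrank_mono hsub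
    have hpd : ParSh.gpDeg k X α E F₁ n ≤
        ParSh.gpDeg k X α E (ParSh.gpInduced k X I f F₁') n := by
      unfold ParSh.gpDeg ParSh.gpWt
      have := mul_le_mul_of_nonneg_left hfr hα0
      linarith
    have hm' : (0 : ℝ) < m := by exact_mod_cast hm
    have := mul_le_mul_of_nonneg_right hpd hm'.le
    linarith
  have hnm' : n = m := by omega
  subst hnm'
  have hpd : ParSh.gpDeg k X α E F₁ n = ParSh.gpDeg k X α F F₁' n := by
    have hn' : (0 : ℝ) < n := by exact_mod_cast hn
    exact mul_right_cancel₀ (ne_of_gt hn') hμ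
  exact ((gpDeg_le_and_eq_iff k hdim I hD α hα0 hα1 n hE hF F₁ F₁' f hf).2).1 hpd

end Groth.Agent.Lib.Helper2.GP
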